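import Mathlib

/-!
# The product of the conjugates of an element under a homomorphism to a group of prime order

`prod_iterate_eq`: for `σ : R →* R` and `φ : R →* C_p`, `∏ i < p, φ (σ^i v) = φ ((c)^[p-1] v)` with
`c w = w⁻¹ * σ w`.
-/

set_option autoImplicit false

namespace Cfsg.Agent.H545.CommIter

open Finset Polynomial

theorem X_sub_one_pow (p : ℕ) [hp : Fact p.Prime] :
    ((X : (ZMod p)[X]) - 1) ^ (p - 1) = ∑ i ∈ Finset.range p, (X : (ZMod p)[X]) ^ i := by
  have h0 : ((X : (ZMod p)[X]) - 1) ≠ 0 := by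
    rw [← Polynomial.C_1]
    exact Polynomial.X_sub_C_ne_zero 1
  apply mul_right_cancel₀ h0
  rw [← pow_succ, Nat.sub_add_cancel hp.out.one_le, geom_sum_mul]
  have := sub_pow_char (R := (ZMod p)[X]) (p := p) (X : (ZMod p)[X]) 1
  rw [this, one_pow]

theorem end_sub_one_pow {p : ℕ} [hp : Fact p.Prime] {M : Type*} [AddCommGroup M] [Module (ZMod p) M]
    (T : Module.End (ZMod p) M) : (T - 1) ^ (p - 1) = ∑ i ∈ Finset.range p, T ^ i := by
  have h := congrArg (Polynomial.aeval T) (X_sub_one_pow p)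
  simpa using h

variable {R : Type*} [Group R] {p : ℕ}

/-- The operator `φ ↦ φ ∘ σ` on functions. -/
def opT (p : ℕ) (σ : R →* R) : Module.End (ZMod p) (R → ZMod p) :=
  LinearMap.funLeft (ZMod p) (ZMod p) σ

theorem opT_apply (σ : R →* R) (φ : R → ZMod p) (v : R) : opT p σ φ v = φ (σ v) := rfl

theorem opT_pow_apply (σ : R →* R) (i : ℕ) (φ : R → ZMod p) (v : R) :
    (opT p σ ^ i) φ v = φ (σ^[i] v) := by
  induction i generalizing v with
  | zero => rfl
  | succ i ih =>
    rw [pow_succ', Module.End.mul_apply, opT_apply, ih, Function.iterate_succ, Function.comp]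

theorem opT_sub_one_pow_apply (σ : R →* R) (k : ℕ) (φ : R → ZMod p)
    (hφ : ∀ v w, φ (v * w) = φ v + φ w) (v : R) :
    ((opT p σ - 1) ^ k) φ v = φ ((fun w => w⁻¹ * σ w)^[k] v) := by
  have key : ∀ (φ : R → ZMod p), (∀ v w, φ (v * w) = φ v + φ w) →
      ∀ v, (opT p σ - 1) φ v = φ (v⁻¹ * σ v) := by
    intro φ hφ v
    have h1 : φ 1 = 0 := by
      have := hφ 1 1
      rw [mul_one] at this
      simpa using this
    have hinv : φ v⁻¹ = - φ v := by
      have := hφ v⁻¹ v
      rw [inv_mul_cancel, h1] at this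
      exact eq_neg_of_add_eq_zero_left this.symm
    rw [hφ, hinv]
    change opT p σ φ v - φ v = _
    rw [opT_apply]
    ring
  induction k generalizing φ v with
  | zero => rfl
  | succ k ih =>
    rw [pow_succ, Module.End.mul_apply, ih _ ?_ v, key φ hφ, Function.iterate_succ_apply']
    intro v w
    have e : ∀ v, (opT p σ - 1) φ v = φ (σ v) - φ v := fun v => rfl
    rw [e, e, e, hφ, map_mul, hφ]
    ring

theorem prod_iterate_eq [hp : Fact p.Prime] (σ : R →* R) (φ : R →* Multiplicative (ZMod p)) (v : R) :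
    ∏ i ∈ Finset.range p, φ (σ^[i] v) = φ ((fun w => w⁻¹ * σ w)^[p - 1] v) := by
  let ψ : R → ZMod p := fun v => Multiplicative.toAdd (φ v)
  have hψ : ∀ v w, ψ (v * w) = ψ v + ψ w := fun v w => by
    simp only [ψ, map_mul, toAdd_mul]
  have h1 := opT_sub_one_pow_apply σ (p - 1) ψ hψ v
  rw [end_sub_one_pow] at h1
  have h2 : (∑ i ∈ Finset.range p, opT p σ ^ i) ψ v = ∑ i ∈ Finset.range p, ψ (σ^[i] v) := by
    rw [LinearMap.sum_apply, Finset.sum_apply]
    exact Finset.sum_congr rfl fun i _ => opT_pow_apply σ i ψ v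
  rw [h2] at h1
  apply Multiplicative.toAdd.injective
  rw [toAdd_prod]
  exact h1

end Cfsg.Agent.H545.CommIter
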