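import Cfsg.Agent.H545.NoTwoP
import Cfsg.Agent.S0058
import Cfsg.Agent.S0126
import Cfsg.Agent.Lib.MinNormalNonabelian
import Cfsg.Agent.OddOrderLocal.PiCore

/-!
# Groups without elements of order `p q`: reduction to almost simple groups

`reduce`: to prove that a finite group without elements of order `p q` has abelian Sylow `p`- or `q`-subgroups (up to an
exceptional quotient `E (G ⧸ O_σ(G))`), it is enough to treat the almost simple groups whose socle has order divisible by
both `p` and `q`.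
-/

set_option autoImplicit false

namespace Cfsg.Agent.H545.NoPQReduce

open Cfsg Cfsg.Agent.H545.NoTwoP

universe u

/-- A normal subgroup whose order is divisible by exactly one of the two primes. -/
theorem one_side {X : Type u} [Group X] [Finite X] {p q : ℕ} [hp : Fact p.Prime] [hq : Fact q.Prime]
    (hpq : p ≠ q) (h : ∀ g : X, orderOf g ≠ p * q) (N : Subgroup X) [hN : N.Normal]
    (hpN : p ∣ Nat.card N) (hqN : ¬ q ∣ Nat.card N) :
    (∀ P : Sylow p X, IsMulCommutative (P : Subgroup X)) ∨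
      (∀ Q : Sylow q X, IsMulCommutative (Q : Subgroup X)) := by
  classical
  have h' : ∀ g : X, orderOf g ≠ q * p := fun g => by rw [mul_comm]; exact h g
  obtain ⟨Q⟩ : Nonempty (Sylow q X) := inferInstance
  obtain ⟨S, ⟨T, hT⟩, hQS, -⟩ := Lib.PGroupCoprimeAction.exists_invariant_sylow_ge
    (A := (Q : Subgroup X)) (H := N) Q.2 hqN (fun b _ u hu => hN.conj_mem u hu b) (q := p) (R := ⊥)
    bot_le IsPGroup.of_bot (by
      intro b _ u hu
      rw [Subgroup.mem_bot] at hu ⊢
      rw [hu]; group)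
  have hSp : IsPGroup p S := by rw [← hT]; exact T.2.map _
  have hS1 : S ≠ ⊥ := by
    intro h0
    have h1 : (T : Subgroup N) = ⊥ := by
      rw [← hT] at h0
      exact (Subgroup.map_eq_bot_iff_of_injective _ N.subtype_injective).mp h0
    have h2 := T.card_eq_multiplicity
    rw [h1, Subgroup.card_bot] at h2
    have h3 : 0 < (Nat.card N).factorization p :=
      hp.out.factorization_pos_of_dvd (Nat.card_pos).ne' hpN
    have h4 : 1 < p ^ (Nat.card N).factorization p := Nat.one_lt_pow h3.ne' hp.out.one_lt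
    omega
  by_cases hq2 : q = 2
  · subst hq2
    by_cases h2 : 2 ∣ Nat.card (Q : Subgroup X)
    · left
      obtain ⟨t, ht⟩ := exists_prime_orderOf_dvd_card' 2 h2
      have ht' : orderOf (t : X) = 2 := by rw [Subgroup.orderOf_coe, ht]
      intro P
      exact comm_of_local_even hpq h' hSp hS1 ht' (fun y hy => hQS t t.2 y hy) P
    · right
      intro Q'
      obtain ⟨n, hn⟩ := IsPGroup.iff_card.mp Q.2
      have hn0 : n = 0 := by
        by_contra hn0
        exact h2 (hn ▸ dvd_pow_self 2 hn0)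
      rw [hn0, pow_zero] at hn
      refine comm_of_sylow Q ?_ Q'
      have h5 : (Q : Subgroup X) = ⊥ := Subgroup.eq_bot_of_card_eq _ hn
      intro y hy z hz
      rw [h5, Subgroup.mem_bot] at hy hz
      rw [hy, hz]
  · right
    intro Q'
    refine comm_of_sylow Q ?_ Q'
    have hcyc : IsCyclic (Q : Subgroup X) := by
      by_contra hnc
      obtain ⟨A, -, ⟨hAc, hAe⟩, hAcard⟩ := S0126.result hq2 Q.2 hnc
      let B : Subgroup X := A.map (Q : Subgroup X).subtype
      have hBQ : B ≤ (Q : Subgroup X) := Subgroup.map_subtype_le A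
      have e : A ≃* B := A.equivMapOfInjective _ (Q : Subgroup X).subtype_injective
      have hBcard : Nat.card B = q ^ 2 := by rw [← Nat.card_congr e.toEquiv, hAcard]
      have hBcomm : IsMulCommutative B := by
        refine ⟨⟨fun x y => ?_⟩⟩
        obtain ⟨x, rfl⟩ := e.surjective x
        obtain ⟨y, rfl⟩ := e.surjective y
        rw [← map_mul, ← map_mul, hAc.1.comm]
      have hBe : ∀ b ∈ B, b ^ q = 1 := by
        rintro _ ⟨a, ha, rfl⟩
        rw [← map_pow, hAe a ha, map_one]
      have hBnc : ¬ IsCyclic B := by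
        intro hc
        obtain ⟨g, hg⟩ := hc.exists_generator
        have h1 : orderOf g = Nat.card B := orderOf_eq_card_of_forall_mem_zpowers hg
        have h2 : orderOf g ∣ q := orderOf_dvd_of_pow_eq_one (Subtype.ext (hBe g g.2))
        rw [h1, hBcard] at h2
        have := Nat.le_of_dvd hq.out.pos h2
        have h3 := hq.out.two_le
        nlinarith
      have hBS : B ≤ Subgroup.normalizer (S : Set X) := by
        intro b hb
        rw [Subgroup.mem_normalizer_iff]
        intro s
        refine ⟨fun hs => hQS b (hBQ hb) s hs, fun hs => ?_⟩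
        have h1 := hQS b⁻¹ (inv_mem (hBQ hb)) _ hs
        have h2 : b⁻¹ * (b * s * b⁻¹) * b⁻¹⁻¹ = s := by group
        rwa [h2] at h1
      have hcop : (Nat.card B).Coprime (Nat.card S) := by
        obtain ⟨n, hn⟩ := IsPGroup.iff_card.mp hSp
        rw [hBcard, hn]
        exact Nat.Coprime.pow _ _ ((Nat.coprime_primes hq.out hp.out).mpr hpq.symm)
      have key := S0058.result B S hBnc hBS hcop
      apply hS1
      rw [← key, eq_bot_iff]
      refine iSup₂_le fun a ha => ?_
      intro s hs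
      rw [Subgroup.mem_bot]
      by_contra hs1
      have h1 := Subgroup.mem_centralizer_iff.mp hs.2 a (Set.mem_singleton a)
      exact not_commute' hpq.symm h' Q.2 hSp (hBQ ha.1) hs.1 ha.2 hs1 h1
    intro y hy z hz
    have := IsCyclic.commGroup (α := (Q : Subgroup X))
    have h1 := (IsCyclic.isMulCommutative (α := (Q : Subgroup X))).1.comm ⟨y, hy⟩ ⟨z, hz⟩
    exact congrArg Subtype.val h1

/-- Abelian Sylow `p`-subgroups lift through a quotient by a normal `p'`-subgroup. -/
theorem lift_sylow {G : Type u} [Group G] [Finite G] {p : ℕ} [hp : Fact p.Prime] (K : Subgroup G) [K.Normal]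
    (hK : ¬ p ∣ Nat.card K) (h : ∀ P : Sylow p (G ⧸ K), IsMulCommutative (P : Subgroup (G ⧸ K)))
    (P : Sylow p G) : IsMulCommutative (P : Subgroup G) := by
  have h1 : IsPGroup p ((P : Subgroup G).map (QuotientGroup.mk' K)) := P.2.map _
  obtain ⟨Q, hQ⟩ := h1.exists_le_sylow
  have hQc := h Q
  refine ⟨⟨fun a b => ?_⟩⟩
  have h2 : QuotientGroup.mk' K ((a : G) * b) = QuotientGroup.mk' K ((b : G) * a) := by
    rw [map_mul, map_mul]
    have := hQc.1.comm ⟨QuotientGroup.mk' K (a : G), hQ ⟨a, a.2, rfl⟩⟩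
      ⟨QuotientGroup.mk' K (b : G), hQ ⟨b, b.2, rfl⟩⟩
    exact congrArg Subtype.val this
  have h3 : ((a : G) * b)⁻¹ * (b * a) ∈ K := by
    rw [← QuotientGroup.eq]; exact h2
  have h4 : ((a : G) * b)⁻¹ * (b * a) ∈ (P : Subgroup G) :=
    mul_mem (inv_mem (mul_mem a.2 b.2)) (mul_mem b.2 a.2)
  have h5 : ((a : G) * b)⁻¹ * (b * a) = 1 := by
    by_contra hne
    obtain ⟨n, hn⟩ := IsPGroup.iff_orderOf.mp P.2 ⟨_, h4⟩
    rw [Subgroup.orderOf_mk] at hn
    have h6 : orderOf (((a : G) * b)⁻¹ * (b * a)) ∣ Nat.card K := by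
      have := orderOf_dvd_natCard (⟨_, h3⟩ : K)
      rwa [Subgroup.orderOf_mk] at this
    have hn0 : n ≠ 0 := by
      rintro rfl
      rw [pow_zero, orderOf_eq_one_iff] at hn
      exact hne hn
    exact hK ((dvd_pow_self p hn0).trans (hn ▸ h6))
  apply Subtype.ext
  change (a : G) * b = b * a
  exact inv_mul_eq_one.mp h5

/-- No elements of order `m` in a quotient if there are none in the group. -/
theorem quotient_order {G : Type u} [Group G] [Finite G] {m : ℕ} (K : Subgroup G) [K.Normal]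
    (h : ∀ g : G, orderOf g ≠ m) (x : G ⧸ K) : orderOf x ≠ m := by
  intro hx
  obtain ⟨g, rfl⟩ := QuotientGroup.mk'_surjective K x
  have h1 : orderOf (QuotientGroup.mk' K g) ∣ orderOf g := orderOf_map_dvd _ g
  rw [hx] at h1
  have h0 : 0 < orderOf g := orderOf_pos g
  have h2 : orderOf (g ^ (orderOf g / m)) = m := by
    have hm : 0 < m := Nat.pos_of_dvd_of_pos h1 h0
    rw [orderOf_pow_of_dvd (Nat.div_pos (Nat.le_of_dvd h0 h1) hm).ne' (Nat.div_dvd_of_dvd h1),
      Nat.div_div_self h1 h0.ne']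
  exact h _ h2

/-- **Reduction to almost simple groups.** -/
theorem reduce {G : Type u} [Group G] [Finite G] {p q : ℕ} [hp : Fact p.Prime] [hq : Fact q.Prime]
    (hpq : p ≠ q) (h : ∀ g : G, orderOf g ≠ p * q) :
    (∀ P : Sylow p G, IsMulCommutative (P : Subgroup G)) ∨
      (∀ Q : Sylow q G, IsMulCommutative (Q : Subgroup G)) ∨
      ((∀ x : G ⧸ piCore {r : ℕ | r.Prime ∧ r ≠ p ∧ r ≠ q} G, orderOf x ≠ p * q) ∧
        ∃ N : Subgroup (G ⧸ piCore {r : ℕ | r.Prime ∧ r ≠ p ∧ r ≠ q} G), N.Normal ∧ IsSimpleGroup N ∧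
          Subgroup.centralizer (N : Set (G ⧸ piCore {r : ℕ | r.Prime ∧ r ≠ p ∧ r ≠ q} G)) = ⊥ ∧
          p ∣ Nat.card N ∧ q ∣ Nat.card N) := by
  classical
  set σ : Set ℕ := {r : ℕ | r.Prime ∧ r ≠ p ∧ r ≠ q} with hσ
  have hKp : ¬ p ∣ Nat.card (piCore σ G) := fun hd =>
    (OddOrderLocal.PiCore.piCore_isPi σ p hp.out hd).2.1 rfl
  have hKq : ¬ q ∣ Nat.card (piCore σ G) := fun hd =>
    (OddOrderLocal.PiCore.piCore_isPi σ q hq.out hd).2.2 rfl
  have hX : ∀ x : G ⧸ piCore σ G, orderOf x ≠ p * q := quotient_order _ h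
  have hcore : ∀ H : Subgroup (G ⧸ piCore σ G), H.Normal →
      (∀ r : ℕ, r.Prime → r ∣ Nat.card H → r ∈ σ) → H = ⊥ :=
    fun H hH hr => OddOrderLocal.PiCore.eq_bot_of_normal_pi H hH hr
  by_cases htriv : Subsingleton (G ⧸ piCore σ G)
  · left
    refine lift_sylow (piCore σ G) hKp ?_
    intro P
    exact ⟨⟨fun a b => Subtype.ext (Subsingleton.elim _ _)⟩⟩
  have hnt : Nontrivial (G ⧸ piCore σ G) := not_subsingleton_iff_nontrivial.mp htriv
  -- a minimal normal subgroup
  let Sn : Set (Subgroup (G ⧸ piCore σ G)) := {N | N.Normal ∧ N ≠ ⊥}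
  obtain ⟨N, ⟨hN, hN1⟩, hmin⟩ := (Set.toFinite Sn).exists_minimal ⟨⊤, inferInstance, top_ne_bot⟩
  have hmin' : ∀ M : Subgroup (G ⧸ piCore σ G), M.Normal → M ≤ N → M = ⊥ ∨ M = N := by
    intro M hM hMN
    by_cases hM0 : M = ⊥
    · exact Or.inl hM0
    · exact Or.inr (le_antisymm hMN (hmin ⟨hM, hM0⟩ hMN))
  by_cases hpN : p ∣ Nat.card N
  swap
  · by_cases hqN : q ∣ Nat.card N
    · rcases one_side hpq.symm (fun g => by rw [mul_comm]; exact hX g) N hqN hpN with h1 | h1
      · exact Or.inr (Or.inl (lift_sylow _ hKq h1))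
      · exact Or.inl (lift_sylow _ hKp h1)
    · exact absurd (hcore N hN fun r hr hd => ⟨hr, fun h => hpN (h ▸ hd), fun h => hqN (h ▸ hd)⟩) hN1
  by_cases hqN : q ∣ Nat.card N
  swap
  · rcases one_side hpq hX N hpN hqN with h1 | h1
    · exact Or.inl (lift_sylow _ hKp h1)
    · exact Or.inr (Or.inl (lift_sylow _ hKq h1))
  refine Or.inr (Or.inr ⟨hX, N, hN, ?_, ?_, hpN, hqN⟩)
  · -- `N` is simple
    obtain ⟨m, T, hm, hTN, hTs, hTn, hTc, hcomm, hinj, -, hsup⟩ :=
      Lib.MinNormal.exists_internal_decomposition N hN1 hmin'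
    have hcard : ∀ i j, Nat.card (T i) = Nat.card (T j) := by
      intro i j
      obtain ⟨g, hg⟩ := hTc i j
      rw [hg]
      exact Nat.card_congr ((T i).equivMapOfInjective _ (MulAut.conj g).injective).toEquiv
    have hdvd : ∀ r : ℕ, r.Prime → r ∣ Nat.card N → ∀ i, r ∣ Nat.card (T i) := by
      intro r hr hrN i
      by_contra hri
      have h1 : ∀ j, (T j).subgroupOf N ≤ piCore {s : ℕ | s ≠ r} N := by
        intro j
        have hn : ((T j).subgroupOf N).Normal := by
          rw [Subgroup.normal_subgroupOf_iff_le_normalizer (hTN j)]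
          exact hTn j
        refine OddOrderLocal.PiCore.le_piCore hn ?_
        intro s _ hs hsr
        rw [Nat.card_congr (Subgroup.subgroupOfEquivOfLe (hTN j)).toEquiv, hcard j i] at hs
        exact hri (hsr ▸ hs)
      have h2 : N ≤ (piCore {s : ℕ | s ≠ r} N).map N.subtype := by
        conv_lhs => rw [← hsup]
        refine iSup_le fun j => ?_
        intro x hx
        exact ⟨⟨x, hTN j hx⟩, h1 j (Subgroup.mem_subgroupOf.mpr hx), rfl⟩
      have h3 : Nat.card N ∣ Nat.card (piCore {s : ℕ | s ≠ r} N) := by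
        have := Subgroup.card_dvd_of_le h2
        rwa [Subgroup.card_map_of_injective N.subtype_injective] at this
      exact OddOrderLocal.PiCore.piCore_isPi {s : ℕ | s ≠ r} r hr (hrN.trans h3) rfl
    have hsub : ∀ i j : Fin m, i = j := by
      intro i j
      by_contra hij
      obtain ⟨x, hx⟩ := exists_prime_orderOf_dvd_card' p (hdvd p hp.out hpN i)
      obtain ⟨y, hy⟩ := exists_prime_orderOf_dvd_card' q (hdvd q hq.out hqN j)
      rw [← Subgroup.orderOf_coe] at hx hy
      refine not_commute (a := 1) (b := 1) hpq hX (by rw [hx, pow_one]) (by rw [hy, pow_one]) ?_ ?_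
        (hcomm i j hij x x.2 y y.2)
      · intro h1
        rw [h1, orderOf_one] at hx
        exact hp.out.one_lt.ne hx
      · intro h1
        rw [h1, orderOf_one] at hy
        exact hq.out.one_lt.ne hy
    have hNT : N = T ⟨0, hm⟩ := by
      rw [← hsup]
      exact le_antisymm (iSup_le fun i => by rw [hsub i ⟨0, hm⟩]) (le_iSup T _)
    rw [hNT]
    exact hTs _
  · apply hcore _ inferInstance
    intro r hr hd
    have : Fact r.Prime := ⟨hr⟩
    obtain ⟨x, hx⟩ := exists_prime_orderOf_dvd_card' r hd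
    rw [← Subgroup.orderOf_coe] at hx
    have hx1 : (x : G ⧸ piCore σ G) ≠ 1 := by
      intro h1
      rw [h1, orderOf_one] at hx
      exact hr.one_lt.ne hx
    refine ⟨hr, ?_, ?_⟩
    · rintro rfl
      obtain ⟨y, hy⟩ := exists_prime_orderOf_dvd_card' q hqN
      rw [← Subgroup.orderOf_coe] at hy
      refine not_commute (a := 1) (b := 1) hpq hX (by rw [hx, pow_one]) (by rw [hy, pow_one]) hx1 ?_
        (Subgroup.mem_centralizer_iff.mp x.2 y y.2).symm
      intro h1
      rw [h1, orderOf_one] at hy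
      exact hq.out.one_lt.ne hy
    · rintro rfl
      obtain ⟨y, hy⟩ := exists_prime_orderOf_dvd_card' p hpN
      rw [← Subgroup.orderOf_coe] at hy
      refine not_commute (a := 1) (b := 1) hpq hX (by rw [hy, pow_one]) (by rw [hx, pow_one]) ?_ hx1
        (Subgroup.mem_centralizer_iff.mp x.2 y y.2)
      intro h1
      rw [h1, orderOf_one] at hy
      exact hp.out.one_lt.ne hy

end Cfsg.Agent.H545.NoPQReduce
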