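import Mathlib

/-!
# The transfer cocycle of a homomorphism from a subgroup to an abelian group

For `H ≤ G`, `f : H →* A` with `A` abelian, `kappa f g c = f (s(g c)⁻¹ g s(c))` for the section
`s = Quotient.out` of `G → G ⧸ H`.  The product of the values over a set `Y` of cosets invariant under a
subgroup is a homomorphism on that subgroup.
-/

set_option autoImplicit false

namespace Cfsg.Agent.H545.TransferCocycle

open Finset

variable {G : Type*} [Group G] {H : Subgroup G} {A : Type*} [CommGroup A]

theorem kappa_mem (g : G) (c : G ⧸ H) : (g • c).out⁻¹ * g * c.out ∈ H := by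
  rw [mul_assoc, ← QuotientGroup.eq]
  rw [QuotientGroup.out_eq']
  conv_lhs => rw [← QuotientGroup.out_eq' c]
  rfl

/-- The transfer cocycle. -/
noncomputable def kappa (f : H →* A) (g : G) (c : G ⧸ H) : A :=
  f ⟨(g • c).out⁻¹ * g * c.out, kappa_mem g c⟩

theorem kappa_mul (f : H →* A) (g h : G) (c : G ⧸ H) :
    kappa f (g * h) c = kappa f g (h • c) * kappa f h c := by
  unfold kappa
  rw [← map_mul]
  congr 1
  apply Subtype.ext
  simp only [Subgroup.coe_mul, mul_smul]
  group

theorem kappa_one (f : H →* A) (c : G ⧸ H) : kappa f 1 c = 1 := by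
  have h := kappa_mul f 1 1 c
  rw [mul_one, one_smul] at h
  exact left_eq_mul.mp h

/-- The product of the values of the cocycle over a finite set of cosets. -/
noncomputable def prodOver (f : H →* A) (Y : Finset (G ⧸ H)) (g : G) : A := ∏ c ∈ Y, kappa f g c

theorem prod_smul_eq {Y : Finset (G ⧸ H)} {g : G} (hg : ∀ c ∈ Y, g • c ∈ Y) (φ : G ⧸ H → A) :
    ∏ c ∈ Y, φ (g • c) = ∏ c ∈ Y, φ c := by
  classical
  have himg : Y.image (fun c => g • c) = Y := by
    refine Finset.eq_of_subset_of_card_le ?_ ?_
    · intro c hc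
      obtain ⟨d, hd, rfl⟩ := Finset.mem_image.mp hc
      exact hg d hd
    · rw [Finset.card_image_of_injective _ (MulAction.injective g)]
  conv_rhs => rw [← himg]
  rw [Finset.prod_image]
  intro a _ b _ hab
  exact MulAction.injective g hab

theorem prodOver_mul (f : H →* A) {Y : Finset (G ⧸ H)} (g h : G) (hh : ∀ c ∈ Y, h • c ∈ Y) :
    prodOver f Y (g * h) = prodOver f Y g * prodOver f Y h := by
  unfold prodOver
  simp only [kappa_mul, Finset.prod_mul_distrib]
  rw [prod_smul_eq hh (fun c => kappa f g c)]

theorem prodOver_one (f : H →* A) (Y : Finset (G ⧸ H)) : prodOver f Y 1 = 1 := by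
  unfold prodOver
  exact Finset.prod_eq_one fun c _ => kappa_one f c

/-- The homomorphism given by an invariant set of cosets. -/
noncomputable def prodHom (f : H →* A) (Y : Finset (G ⧸ H)) (R : Subgroup G)
    (hR : ∀ r ∈ R, ∀ c ∈ Y, r • c ∈ Y) : R →* A where
  toFun r := prodOver f Y r
  map_one' := prodOver_one f Y
  map_mul' a b := prodOver_mul f _ _ (hR b b.2)

/-- Translating the set of cosets is the same as conjugating the element. -/
theorem prodOver_image [DecidableEq (G ⧸ H)] (f : H →* A) (Y : Finset (G ⧸ H)) (z u : G)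
    (hu : ∀ c ∈ Y, (z⁻¹ * u * z) • c ∈ Y) :
    ∏ c ∈ Y, kappa f u (z • c) = prodOver f Y (z⁻¹ * u * z) := by
  unfold prodOver
  have h1 : ∀ c ∈ Y, kappa f (z⁻¹ * u * z) c =
      kappa f z⁻¹ (z • ((z⁻¹ * u * z) • c)) * kappa f u (z • c) * kappa f z c := by
    intro c _
    rw [mul_assoc z⁻¹ u z, kappa_mul, kappa_mul]
    have : (u * z) • c = z • ((z⁻¹ * (u * z)) • c) := by
      rw [smul_smul]; congr 1; group
    rw [← this, mul_assoc]
  rw [Finset.prod_congr rfl h1, Finset.prod_mul_distrib, Finset.prod_mul_distrib,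
    prod_smul_eq hu (fun c => kappa f z⁻¹ (z • c))]
  have h2 : (∏ c ∈ Y, kappa f z⁻¹ (z • c)) * ∏ c ∈ Y, kappa f z c = 1 := by
    rw [← Finset.prod_mul_distrib]
    refine Finset.prod_eq_one fun c _ => ?_
    rw [← kappa_mul, inv_mul_cancel, kappa_one]
  rw [mul_right_comm, h2, one_mul]

theorem kappa_pow (f : H →* A) (g : G) (c : G ⧸ H) (n : ℕ) :
    kappa f (g ^ n) c = ∏ i ∈ Finset.range n, kappa f g (g ^ i • c) := by
  induction n with
  | zero => simp [kappa_one]
  | succ n ih => rw [pow_succ', kappa_mul, ih, Finset.prod_range_succ, mul_comm]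

/-- If all "closed" cocycle values of powers of `g` are trivial then the product over an invariant
set is trivial. -/
theorem prodOver_eq_one_of_closed [Finite G] (f : H →* A) (g : G) (n : ℕ) :
    ∀ Y : Finset (G ⧸ H), Y.card = n → (∀ c ∈ Y, g • c ∈ Y) →
      (∀ c ∈ Y, ∀ m : ℕ, 0 < m → g ^ m • c = c → kappa f (g ^ m) c = 1) → prodOver f Y g = 1 := by
  classical
  induction n using Nat.strong_induction_on with
  | _ n ih =>
    intro Y hY hg hm
    rcases Y.eq_empty_or_nonempty with rfl | ⟨c, hc⟩
    · simp [prodOver]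
    have hpow : ∀ i : ℕ, ∀ d ∈ Y, g ^ i • d ∈ Y := by
      intro i
      induction i with
      | zero => intro d hd; simpa using hd
      | succ i ihi => intro d hd; rw [pow_succ', mul_smul]; exact hg _ (ihi d hd)
    -- the length of the orbit
    have hex : ∃ m : ℕ, 0 < m ∧ g ^ m • c = c := by
      refine ⟨orderOf g, orderOf_pos g, ?_⟩
      rw [pow_orderOf_eq_one, one_smul]
    let m := Nat.find hex
    have hm0 : 0 < m := (Nat.find_spec hex).1
    have hmc : g ^ m • c = c := (Nat.find_spec hex).2
    have hmin : ∀ k, k < m → 0 < k → g ^ k • c ≠ c := by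
      intro k hk hk0 hkc
      exact Nat.find_min hex hk ⟨hk0, hkc⟩
    let Z : Finset (G ⧸ H) := (Finset.range m).image (fun i => g ^ i • c)
    have hinj : Set.InjOn (fun i : ℕ => g ^ i • c) (Finset.range m : Set ℕ) := by
      intro i hi j hj hij
      simp only [Finset.coe_range, Set.mem_Iio] at hi hj
      simp only at hij
      rcases lt_trichotomy i j with h | h | h
      · exfalso
        refine hmin (j - i) (by omega) (by omega) ?_
        apply MulAction.injective (g ^ i)
        simp only
        rw [smul_smul, ← pow_add, show i + (j - i) = j by omega, hij]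
      · exact h
      · exfalso
        refine hmin (i - j) (by omega) (by omega) ?_
        apply MulAction.injective (g ^ j)
        simp only
        rw [smul_smul, ← pow_add, show j + (i - j) = i by omega, hij]
    have hZY : Z ⊆ Y := by
      intro d hd
      obtain ⟨i, _, rfl⟩ := Finset.mem_image.mp hd
      exact hpow i c hc
    have hcZ : c ∈ Z := Finset.mem_image.mpr ⟨0, Finset.mem_range.mpr hm0, by simp⟩
    have hgZ : ∀ d ∈ Z, g • d ∈ Z := by
      intro d hd
      obtain ⟨i, hi, rfl⟩ := Finset.mem_image.mp hd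
      rw [Finset.mem_range] at hi
      by_cases h : i + 1 < m
      · exact Finset.mem_image.mpr ⟨i + 1, Finset.mem_range.mpr h, by simp only [pow_succ', mul_smul]⟩
      · have : i + 1 = m := by omega
        have h2 : g • g ^ i • c = c := by
          rw [← mul_smul, ← pow_succ', this, hmc]
        rw [h2]
        exact hcZ
    have hprodZ : ∏ d ∈ Z, kappa f g d = 1 := by
      rw [Finset.prod_image hinj, ← kappa_pow]
      exact hm c hc m hm0 hmc
    -- the complement is invariant
    have hgZ' : ∀ d, g • d ∈ Z → d ∈ Z := by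
      intro d hd
      have himg : Z.image (fun c => g • c) = Z := by
        refine Finset.eq_of_subset_of_card_le ?_ ?_
        · intro e he
          obtain ⟨d, hd, rfl⟩ := Finset.mem_image.mp he
          exact hgZ d hd
        · rw [Finset.card_image_of_injective _ (MulAction.injective g)]
      rw [← himg] at hd
      obtain ⟨e, he, hed⟩ := Finset.mem_image.mp hd
      have := MulAction.injective g hed
      rwa [← this]
    have hrest : prodOver f (Y \ Z) g = 1 := by
      refine ih (Y \ Z).card ?_ (Y \ Z) rfl ?_ ?_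
      · rw [← hY]
        exact Finset.card_lt_card (Finset.sdiff_ssubset hZY ⟨c, hcZ⟩)
      · intro d hd
        rw [Finset.mem_sdiff] at hd ⊢
        exact ⟨hg d hd.1, fun h => hd.2 (hgZ' d h)⟩
      · intro d hd k hk hkd
        exact hm d (Finset.mem_sdiff.mp hd).1 k hk hkd
    unfold prodOver at hrest ⊢
    rw [← Finset.prod_sdiff hZY, hrest, hprodZ, one_mul]

/-- A closed cocycle value is a value of `f` at a conjugate. -/
theorem kappa_of_smul_eq (f : H →* A) (g : G) (c : G ⧸ H) (h : g • c = c) :
    ∃ hm : c.out⁻¹ * g * c.out ∈ H, kappa f g c = f ⟨c.out⁻¹ * g * c.out, hm⟩ := by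
  have hm := kappa_mem g c
  rw [h] at hm
  refine ⟨hm, ?_⟩
  unfold kappa
  congr 1
  apply Subtype.ext
  simp only [h]

end Cfsg.Agent.H545.TransferCocycle
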