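import Cfsg.Agent.H545.TransferCocycle
import Cfsg.Agent.H545.CommIter
import Cfsg.Agent.Transfer.Tate
import Cfsg.Prelude.Def_Transfer

/-!
# The Wielandt--Yoshida transfer theorem

* `exists_of_hom_not_extends`: `S` a Sylow `p`-subgroup of the finite group `G`, `W` weakly closed in `S` with
  respect to `G`, `H = N_G(W)`.  If some homomorphism `H → C_p` does not extend to `G`, there are
  `u ∈ S`, `z ∈ W`, a normal subgroup `R` of index `p` of `W⟨u⟩` with `u ∈ R`, `z ∉ R` and a homomorphism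
  `lam : R → C_p` with `lam [u, z; p - 1] ≠ 1`.
-/

set_option autoImplicit false

namespace Cfsg.Agent.H545.WielandtYoshida

open Cfsg Cfsg.Agent.H545.TransferCocycle
open scoped commutatorElement

universe u

variable {G : Type u} [Group G] {p : ℕ}

theorem iterate_conj (R : Subgroup G) (σ : R →* R) (z : G) (hσ : ∀ r : R, (σ r : G) = z⁻¹ * r * z)
    (i : ℕ) (r : R) : ((σ^[i] r : R) : G) = (z ^ i)⁻¹ * r * z ^ i := by
  induction i generalizing r with
  | zero => simp
  | succ i ih =>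
    rw [Function.iterate_succ_apply, ih, hσ, pow_succ']
    group

theorem iterate_comm (R : Subgroup G) (σ : R →* R) (z : G) (hσ : ∀ r : R, (σ r : G) = z⁻¹ * r * z)
    (i : ℕ) (r : R) : (((fun w : R => w⁻¹ * σ w)^[i] r : R) : G) =
      (fun y : G => y⁻¹ * z⁻¹ * y * z)^[i] (r : G) := by
  induction i with
  | zero => simp
  | succ i ih =>
    rw [Function.iterate_succ_apply', Function.iterate_succ_apply', ← ih]
    simp only [Subgroup.coe_mul, Subgroup.coe_inv, hσ]
    group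

/-- The contribution of one orbit. -/
theorem block [Finite G] [hp : Fact p.Prime] (H : Subgroup G) (f : H →* Multiplicative (ZMod p))
    (L : Subgroup G) (hL : IsPGroup p L) (u : G) (huL : u ∈ L) (W : Subgroup G)
    (hWL : L = W ⊔ Subgroup.zpowers u) (c : G ⧸ H) (huc : u • c = c) (hWc : ∃ w ∈ W, w • c ≠ c)
    (B : Finset (G ⧸ H)) (hB : ∀ d, d ∈ B ↔ ∃ l ∈ L, l • c = d) (hne : prodOver f B u ≠ 1) :
    ∃ z ∈ W, ∃ R : Subgroup G, R ≤ L ∧ (R.subgroupOf L).Normal ∧ R.relIndex L = p ∧ u ∈ R ∧ z ∉ R ∧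
      ∃ (lam : R →* Multiplicative (ZMod p))
        (hm : (fun y : G => y⁻¹ * z⁻¹ * y * z)^[p - 1] u ∈ R), lam ⟨_, hm⟩ ≠ 1 := by
  classical
  have hstab : MulAction.stabilizer L c ≠ ⊤ := by
    intro h
    obtain ⟨w, hw, hwc⟩ := hWc
    have hwL : w ∈ L := by rw [hWL]; exact (le_sup_left : W ≤ _) hw
    have h1 : (⟨w, hwL⟩ : L) ∈ MulAction.stabilizer L c := by rw [h]; exact Subgroup.mem_top _
    exact hwc h1
  obtain ⟨R₀, hR₀, hle⟩ := (eq_top_or_exists_le_coatom (MulAction.stabilizer L c)).resolve_left hstab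
  have hnil : Group.IsNilpotent L := hL.isNilpotent
  have hR₀n : R₀.Normal := Subgroup.NormalizerCondition.normal_of_coatom R₀
    (Group.normalizerCondition_of_isNilpotent) hR₀
  have hidx : R₀.index = p := by
    have h1 : IsPGroup p (L ⧸ R₀) := hL.to_quotient R₀
    -- the quotient has no proper nontrivial subgroups
    have hsimple : ∀ K : Subgroup (L ⧸ R₀), K = ⊥ ∨ K = ⊤ := by
      intro K
      have h2 : R₀ ≤ K.comap (QuotientGroup.mk' R₀) := by
        intro x hx
        rw [Subgroup.mem_comap, QuotientGroup.mk'_apply, (QuotientGroup.eq_one_iff x).mpr hx]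
        exact one_mem K
      rcases hR₀.le_iff.mp h2 with h3 | h3
      · right
        rw [← Subgroup.map_comap_eq_self_of_surjective (QuotientGroup.mk'_surjective R₀) K, h3,
          ← MonoidHom.range_eq_map, MonoidHom.range_eq_top]
        exact QuotientGroup.mk'_surjective R₀
      · left
        rw [← Subgroup.map_comap_eq_self_of_surjective (QuotientGroup.mk'_surjective R₀) K, h3]
        exact QuotientGroup.map_mk'_self R₀
    have hnt : Nontrivial (L ⧸ R₀) := by
      rw [QuotientGroup.nontrivial_iff]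
      exact hR₀.1
    have hdvd : p ∣ Nat.card (L ⧸ R₀) := by
      obtain ⟨n, hn0, hn⟩ := h1.nontrivial_iff_card.mp hnt
      rw [hn]
      exact dvd_pow_self p hn0.ne'
    obtain ⟨x, hx⟩ := exists_prime_orderOf_dvd_card' p hdvd
    rcases hsimple (Subgroup.zpowers x) with h2 | h2
    · rw [Subgroup.zpowers_eq_bot] at h2
      rw [h2, orderOf_one] at hx
      exact absurd hx.symm hp.out.one_lt.ne'
    · rw [Subgroup.index_eq_card, ← hx, ← Nat.card_zpowers, h2, Subgroup.card_top]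
  have huR₀ : (⟨u, huL⟩ : L) ∈ R₀ := hle huc
  -- an element of `W` outside `R₀`
  obtain ⟨z, hzW, hzL, hz⟩ : ∃ z ∈ W, ∃ hzL : z ∈ L, (⟨z, hzL⟩ : L) ∉ R₀ := by
    by_contra hcon
    push Not at hcon
    apply hR₀.1
    rw [eq_top_iff]
    rintro ⟨x, hx⟩ -
    have h1 : L ≤ R₀.map L.subtype := by
      conv_lhs => rw [hWL]
      rw [sup_le_iff, Subgroup.zpowers_le]
      refine ⟨?_, ⟨⟨u, huL⟩, huR₀, rfl⟩⟩
      intro w hw
      have hwL : w ∈ L := by rw [hWL]; exact (le_sup_left : W ≤ _) hw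
      exact ⟨⟨w, hwL⟩, hcon w hw hwL, rfl⟩
    obtain ⟨y, hy, hyx⟩ := h1 hx
    have : y = ⟨x, hx⟩ := Subtype.ext hyx
    rwa [← this]
  let R : Subgroup G := R₀.map L.subtype
  have hRL : R ≤ L := Subgroup.map_subtype_le R₀
  have hRsub : R.subgroupOf L = R₀ := by
    exact Subgroup.comap_map_eq_self_of_injective L.subtype_injective R₀
  have memR : ∀ (x : G) (hx : x ∈ L), x ∈ R ↔ (⟨x, hx⟩ : L) ∈ R₀ := by
    intro x hx
    rw [← hRsub, Subgroup.mem_subgroupOf]
  have huR : u ∈ R := (memR u huL).mpr huR₀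
  have hzR : z ∉ R := fun h => hz ((memR z hzL).mp h)
  have hRn : ∀ l ∈ L, ∀ r ∈ R, l⁻¹ * r * l ∈ R := by
    intro l hl r hr
    have hrL := hRL hr
    have h1 := hR₀n.conj_mem ⟨r, hrL⟩ ((memR r hrL).mp hr) ⟨l, hl⟩⁻¹
    have h2 : (⟨l⁻¹ * r * l, mul_mem (mul_mem (inv_mem hl) hrL) hl⟩ : L) ∈ R₀ := by
      convert h1 using 1
      apply Subtype.ext
      simp
    exact (memR _ _).mpr h2
  have hcard : Nat.card (L ⧸ R₀) = p := by rw [← hidx, Subgroup.index_eq_card]
  have hqz : (QuotientGroup.mk' R₀ ⟨z, hzL⟩) ≠ 1 := by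
    intro h
    exact hz ((QuotientGroup.eq_one_iff _).mp h)
  have hoz : orderOf (QuotientGroup.mk' R₀ ⟨z, hzL⟩) = p := orderOf_eq_prime
    (by rw [← hcard]; exact pow_card_eq_one') hqz
  -- the suborbit
  let B₀ : Finset (G ⧸ H) := (Set.toFinite {d : G ⧸ H | ∃ r ∈ R, r • c = d}).toFinset
  have memB₀ : ∀ d, d ∈ B₀ ↔ ∃ r ∈ R, r • c = d := by
    intro d
    simp [B₀]
  have hB₀inv : ∀ r ∈ R, ∀ d ∈ B₀, r • d ∈ B₀ := by
    intro r hr d hd
    obtain ⟨s, hs, rfl⟩ := (memB₀ d).mp hd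
    exact (memB₀ _).mpr ⟨r * s, mul_mem hr hs, mul_smul r s c⟩
  have hprod : prodOver f B u =
      ∏ x ∈ Finset.range p ×ˢ B₀, kappa f u (z ^ x.1 • x.2) := by
    unfold prodOver
    symm
    refine Finset.prod_bij (fun x _ => z ^ x.1 • x.2) ?_ ?_ ?_ ?_
    · intro x hx
      obtain ⟨r, hr, hrc⟩ := (memB₀ _).mp (Finset.mem_product.mp hx).2
      rw [hB]
      exact ⟨z ^ x.1 * r, mul_mem (pow_mem hzL _) (hRL hr), by rw [mul_smul, hrc]⟩
    · rintro ⟨i, d⟩ hx ⟨j, e⟩ hy hxy
      obtain ⟨hi, hd⟩ := Finset.mem_product.mp hx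
      obtain ⟨hj, he⟩ := Finset.mem_product.mp hy
      simp only [Finset.mem_range] at hi hj hxy
      obtain ⟨r, hr, rfl⟩ := (memB₀ _).mp hd
      obtain ⟨s, hs, rfl⟩ := (memB₀ _).mp he
      have h1 : ((z ^ j * s)⁻¹ * (z ^ i * r)) • c = c := by
        rw [mul_smul, mul_smul (z ^ i), hxy, ← mul_smul (z ^ j), ← mul_smul, inv_mul_cancel, one_smul]
      have h2L : (z ^ j * s)⁻¹ * (z ^ i * r) ∈ L :=
        mul_mem (inv_mem (mul_mem (pow_mem hzL _) (hRL hs))) (mul_mem (pow_mem hzL _) (hRL hr))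
      have h2 : (⟨(z ^ j * s)⁻¹ * (z ^ i * r), h2L⟩ : L) ∈ R₀ := hle h1
      have h3 : QuotientGroup.mk' R₀ (⟨(z ^ j * s)⁻¹ * (z ^ i * r), h2L⟩ : L) = 1 :=
        (QuotientGroup.eq_one_iff _).mpr h2
      have h4 : (⟨(z ^ j * s)⁻¹ * (z ^ i * r), h2L⟩ : L) =
          ((⟨z, hzL⟩ : L) ^ j * ⟨s, hRL hs⟩)⁻¹ * ((⟨z, hzL⟩ : L) ^ i * ⟨r, hRL hr⟩) := by
        apply Subtype.ext
        simp
      have h5 : QuotientGroup.mk' R₀ ⟨s, hRL hs⟩ = 1 :=
        (QuotientGroup.eq_one_iff _).mpr ((memR s (hRL hs)).mp hs)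
      have h6 : QuotientGroup.mk' R₀ ⟨r, hRL hr⟩ = 1 :=
        (QuotientGroup.eq_one_iff _).mpr ((memR r (hRL hr)).mp hr)
      rw [h4, map_mul, map_inv, map_mul, map_mul, map_pow, map_pow, h5, h6, mul_one, mul_one,
        inv_mul_eq_one] at h3
      have h7 : j = i := by
        have := pow_injOn_Iio_orderOf (x := QuotientGroup.mk' R₀ ⟨z, hzL⟩)
          (by rw [hoz]; exact hj) (by rw [hoz]; exact hi) h3
        exact this
      subst h7
      have h8 := MulAction.injective (z ^ j) hxy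
      rw [h8]
    · intro d hd
      obtain ⟨l, hl, rfl⟩ := (hB d).mp hd
      obtain ⟨n, hn⟩ := mem_powers_of_prime_card hcard hqz
        (g' := QuotientGroup.mk' R₀ ⟨l, hl⟩)
      simp only at hn
      have hn' : (QuotientGroup.mk' R₀ ⟨z, hzL⟩) ^ (n % p) = QuotientGroup.mk' R₀ ⟨l, hl⟩ := by
        rw [← hn, ← hoz, pow_mod_orderOf]
      have h1 : ((⟨z, hzL⟩ : L) ^ (n % p))⁻¹ * ⟨l, hl⟩ ∈ R₀ := by
        rw [← QuotientGroup.eq_one_iff, ← QuotientGroup.mk'_apply, map_mul, map_inv, map_pow, hn',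
          inv_mul_cancel]
      have h2 : (z ^ (n % p))⁻¹ * l ∈ R := by
        refine (memR _ (mul_mem (inv_mem (pow_mem hzL _)) hl)).mpr ?_
        convert h1 using 1
        apply Subtype.ext
        simp
      refine ⟨(n % p, ((z ^ (n % p))⁻¹ * l) • c), ?_, ?_⟩
      · rw [Finset.mem_product]
        exact ⟨Finset.mem_range.mpr (Nat.mod_lt _ hp.out.pos), (memB₀ _).mpr ⟨_, h2, rfl⟩⟩
      · simp only
        rw [smul_smul]
        congr 1
        group
    · intro x _
      rfl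
  let σ : R →* R :=
    { toFun := fun r => ⟨z⁻¹ * r * z, hRn z hzL r r.2⟩
      map_one' := by apply Subtype.ext; simp
      map_mul' := by
        intro a b
        apply Subtype.ext
        simp only [Subgroup.coe_mul]
        group }
  have hσ : ∀ r : R, (σ r : G) = z⁻¹ * r * z := fun r => rfl
  let φ : R →* Multiplicative (ZMod p) := prodHom f B₀ R hB₀inv
  have hφ : ∀ r : R, φ r = prodOver f B₀ (r : G) := fun r => rfl
  have hprod2 : prodOver f B u = ∏ i ∈ Finset.range p, φ (σ^[i] ⟨u, huR⟩) := by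
    rw [hprod, Finset.prod_product]
    refine Finset.prod_congr rfl fun i _ => ?_
    rw [hφ, iterate_conj R σ z hσ]
    refine prodOver_image f B₀ (z ^ i) u ?_
    intro d hd
    exact hB₀inv _ (hRn _ (pow_mem hzL i) u huR) d hd
  rw [CommIter.prod_iterate_eq] at hprod2
  have hmem := iterate_comm R σ z hσ (p - 1) ⟨u, huR⟩
  have hm : (fun y : G => y⁻¹ * z⁻¹ * y * z)^[p - 1] u ∈ R := by
    simp only at hmem
    rw [← hmem]
    exact SetLike.coe_mem _
  refine ⟨z, hzW, R, hRL, ?_, ?_, huR, hzR, φ, hm, ?_⟩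
  · rw [hRsub]; exact hR₀n
  · rw [Subgroup.relIndex, hRsub, hidx]
  · have h1 : (⟨_, hm⟩ : R) = (fun w : R => w⁻¹ * σ w)^[p - 1] ⟨u, huR⟩ := by
      apply Subtype.ext
      exact hmem.symm
    rw [h1, ← hprod2]
    exact hne

theorem le_normalizer_of_weaklyClosed (S W : Subgroup G) (hW : IsWeaklyClosed W S) :
    S ≤ Subgroup.normalizer (W : Set G) := by
  intro s hs
  have h1 : W.map (MulAut.conj s).toMonoidHom ≤ S := by
    rintro _ ⟨w, hw, rfl⟩
    exact mul_mem (mul_mem hs (hW.1 hw)) (inv_mem hs)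
  have h2 := hW.2 s h1
  rw [Subgroup.mem_normalizer_iff]
  intro x
  constructor
  · intro hx
    have : (MulAut.conj s) x ∈ W.map (MulAut.conj s).toMonoidHom := ⟨x, hx, rfl⟩
    rw [h2] at this
    exact this
  · intro hx
    have : s * x * s⁻¹ ∈ W.map (MulAut.conj s).toMonoidHom := by rw [h2]; exact hx
    obtain ⟨y, hy, hyx⟩ := this
    have h3 : s * y * s⁻¹ = s * x * s⁻¹ := hyx
    have h4 : y = x := by
      have := mul_right_cancel h3
      exact mul_left_cancel this
    rwa [← h4]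

/-- The only coset of `N_G(W)` fixed by the weakly closed subgroup `W` is the trivial one. -/
theorem eq_one_of_fixed [Finite G] [Fact p.Prime] (S : Sylow p G) (W : Subgroup G)
    (hW : IsWeaklyClosed W (S : Subgroup G)) (H : Subgroup G)
    (hH : H = Subgroup.normalizer (W : Set G)) (c : G ⧸ H)
    (hc : ∀ w ∈ W, w • c = c) : c = ((1 : G) : G ⧸ H) := by
  have hSH : (S : Subgroup G) ≤ H := hH ▸ le_normalizer_of_weaklyClosed _ _ hW
  set x := c.out with hx
  have hxc : (x : G ⧸ H) = c := QuotientGroup.out_eq' c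
  have h1 : ∀ w ∈ W, x⁻¹ * w * x ∈ H := by
    intro w hw
    have h2 := hc w hw
    rw [← hxc] at h2
    have h3 : ((w * x : G) : G ⧸ H) = x := h2
    have h4 := QuotientGroup.eq.mp h3.symm
    rwa [← mul_assoc] at h4
  have hWp : IsPGroup p W := S.2.to_le hW.1
  let W' : Subgroup G := W.map (MulAut.conj x⁻¹).toMonoidHom
  have hW'p : IsPGroup p W' := hWp.map _
  have hW'H : W' ≤ H := by
    rintro _ ⟨w, hw, rfl⟩
    have := h1 w hw
    simpa using this
  have hW'p' : IsPGroup p (W'.subgroupOf H) := hW'p.comap_subtype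
  obtain ⟨T, hT⟩ := hW'p'.exists_le_sylow
  obtain ⟨h, hh⟩ := MulAction.exists_smul_eq H T (S.subtype hSH)
  have h2 : W.map (MulAut.conj ((h : G) * x⁻¹)).toMonoidHom ≤ S := by
    rintro _ ⟨w, hw, rfl⟩
    have h3 : (⟨x⁻¹ * w * x, h1 w hw⟩ : H) ∈ W'.subgroupOf H := by
      rw [Subgroup.mem_subgroupOf]
      exact ⟨w, hw, by simp⟩
    have h4 := hT h3
    have h5 : h * ⟨x⁻¹ * w * x, h1 w hw⟩ * h⁻¹ ∈ (S.subtype hSH : Subgroup H) := by
      rw [← hh, Sylow.coe_subgroup_smul]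
      exact Subgroup.smul_mem_pointwise_smul _ (MulAut.conj h) _ h4
    have h6 : ((h * ⟨x⁻¹ * w * x, h1 w hw⟩ * h⁻¹ : H) : G) ∈ (S : Subgroup G) := by
      rw [Sylow.coe_subtype] at h5
      exact h5
    convert h6 using 1
    simp [mul_assoc]
  have h3 := hW.2 _ h2
  have h4 : (h : G) * x⁻¹ ∈ H := by
    suffices hs : (h : G) * x⁻¹ ∈ Subgroup.normalizer (W : Set G) from
      (SetLike.ext_iff.mp hH _).mpr hs
    rw [Subgroup.mem_normalizer_iff]
    intro y
    constructor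
    · intro hy
      have : (MulAut.conj ((h : G) * x⁻¹)) y ∈ W.map (MulAut.conj ((h : G) * x⁻¹)).toMonoidHom :=
        ⟨y, hy, rfl⟩
      rw [h3] at this
      exact this
    · intro hy
      have : (h : G) * x⁻¹ * y * ((h : G) * x⁻¹)⁻¹ ∈
          W.map (MulAut.conj ((h : G) * x⁻¹)).toMonoidHom := by rw [h3]; exact hy
      obtain ⟨v, hv, hvy⟩ := this
      have h5 : (h : G) * x⁻¹ * v * ((h : G) * x⁻¹)⁻¹ = (h : G) * x⁻¹ * y * ((h : G) * x⁻¹)⁻¹ := hvy
      have h6 : v = y := by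
        have := mul_right_cancel h5
        exact mul_left_cancel this
      rwa [← h6]
  have h5 : x⁻¹ ∈ H := (Subgroup.mul_mem_cancel_left H h.2).mp h4
  rw [← hxc]
  refine (QuotientGroup.eq.mpr ?_).symm
  rw [inv_one, one_mul]
  exact (Subgroup.inv_mem_iff H).mp h5

/-- A homomorphism from a subgroup containing a Sylow `p`-subgroup `S` to a group of order `p` which kills
`S ∩ G'` extends. -/
theorem extends_of_kills [Finite G] [hp : Fact p.Prime] (S : Sylow p G) (H : Subgroup G)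
    (hSH : (S : Subgroup G) ≤ H) {A : Type*} [CommGroup A] (hA : IsPGroup p A) (f : H →* A)
    (hf : ∀ (u : G) (hu : u ∈ (S : Subgroup G)), u ∈ commutator G → f ⟨u, hSH hu⟩ = 1) :
    ∃ F : G →* A, ∀ h : H, F h = f h := by
  obtain ⟨F, hF⟩ := Cfsg.Agent.Transfer.Tate.hom_extends_of_fusion (S : Subgroup G) S.not_dvd_index hA
    (f.comp (Subgroup.inclusion hSH)) (by
      intro x y g hxy
      have h1 : (x : G)⁻¹ * y ∈ commutator G := by
        have h2 : (x : G)⁻¹ * y = ⁅(x : G)⁻¹, g⁆ := by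
          rw [← hxy, commutatorElement_def]
          group
        rw [h2]
        exact Subgroup.commutator_mem_commutator (Subgroup.mem_top _) (Subgroup.mem_top _)
      have h2 := hf ((x : G)⁻¹ * y) (mul_mem (inv_mem x.2) y.2) h1
      have h3 : (⟨(x : G)⁻¹ * y, hSH (mul_mem (inv_mem x.2) y.2)⟩ : H) =
          (Subgroup.inclusion hSH x)⁻¹ * Subgroup.inclusion hSH y := by
        apply Subtype.ext
        simp
      rw [h3, map_mul, map_inv, inv_mul_eq_one] at h2
      exact h2)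
  refine ⟨F, ?_⟩
  have hidx : ¬ p ∣ ((S : Subgroup G).subgroupOf H).index := by
    intro h
    exact S.not_dvd_index (h.trans (Subgroup.relIndex_dvd_index_of_le hSH))
  have := Cfsg.Agent.Transfer.Residual.hom_eq_of_eq_on (H := (S : Subgroup G).subgroupOf H) hidx hA
    (f := F.comp H.subtype) (f' := f) (by
      intro x hx
      have := hF ⟨x, hx⟩
      exact this)
  intro h
  exact DFunLike.congr_fun this h

/-- **Wielandt--Yoshida**. -/
theorem exists_of_hom_not_extends [Finite G] [hp : Fact p.Prime] (S : Sylow p G) (W : Subgroup G)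
    (hW : IsWeaklyClosed W (S : Subgroup G)) (H : Subgroup G)
    (hH : H = Subgroup.normalizer (W : Set G)) (f : H →* Multiplicative (ZMod p))
    (hf : ¬ ∃ F : G →* Multiplicative (ZMod p), ∀ h : H, F h = f h) :
    ∃ u ∈ (S : Subgroup G), ∃ z ∈ W, ∃ R : Subgroup G, R ≤ W ⊔ Subgroup.zpowers u ∧
      (R.subgroupOf (W ⊔ Subgroup.zpowers u)).Normal ∧ R.relIndex (W ⊔ Subgroup.zpowers u) = p ∧
      u ∈ R ∧ z ∉ R ∧
      ∃ (lam : R →* Multiplicative (ZMod p))
        (hm : (fun y : G => y⁻¹ * z⁻¹ * y * z)^[p - 1] u ∈ R), lam ⟨_, hm⟩ ≠ 1 := by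
  classical
  have hA : IsPGroup p (Multiplicative (ZMod p)) := by
    refine IsPGroup.of_card (n := 1) ?_
    simp
  have hSH : (S : Subgroup G) ≤ H := hH ▸ le_normalizer_of_weaklyClosed _ _ hW
  -- an element of minimal order
  let P : ℕ → Prop := fun n => ∃ (u : G) (hu : u ∈ H), u ∈ commutator G ∧ (∃ k, orderOf u = p ^ k) ∧
    f ⟨u, hu⟩ ≠ 1 ∧ orderOf u = n
  have hP : ∃ n, P n := by
    by_contra hcon
    push Not at hcon
    refine hf (extends_of_kills S H hSH hA f ?_)
    intro u hu huG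
    by_contra hfu
    obtain ⟨k, hk⟩ := IsPGroup.iff_orderOf.mp S.2 ⟨u, hu⟩
    rw [Subgroup.orderOf_mk] at hk
    exact hcon _ ⟨u, hSH hu, huG, ⟨k, hk⟩, hfu, rfl⟩
  obtain ⟨u₀, hu₀H, hu₀G, ⟨k, hk⟩, hfu₀, hu₀n⟩ := Nat.find_spec hP
  have hmin₀ : ∀ (y : G) (hy : y ∈ H), y ∈ commutator G → (∃ k, orderOf y = p ^ k) →
      orderOf y < orderOf u₀ → f ⟨y, hy⟩ = 1 := by
    intro y hy hyG hyk hlt
    by_contra hfy
    exact Nat.find_min hP (by rw [← hu₀n]; exact hlt) ⟨y, hy, hyG, hyk, hfy, rfl⟩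
  -- move `u₀` into `S`
  obtain ⟨h, hhH, hhS⟩ : ∃ h ∈ H, h * u₀ * h⁻¹ ∈ (S : Subgroup G) := by
    have h1 : IsPGroup p (Subgroup.zpowers (⟨u₀, hu₀H⟩ : H)) := by
      refine IsPGroup.of_card (n := k) ?_
      rw [Nat.card_zpowers, Subgroup.orderOf_mk, hk]
    obtain ⟨T, hT⟩ := h1.exists_le_sylow
    obtain ⟨h, hh⟩ := MulAction.exists_smul_eq H T (S.subtype hSH)
    refine ⟨h, h.2, ?_⟩
    have h4 := hT (Subgroup.mem_zpowers _)
    have h5 : h * ⟨u₀, hu₀H⟩ * h⁻¹ ∈ (S.subtype hSH : Subgroup H) := by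
      rw [← hh, Sylow.coe_subgroup_smul]
      exact Subgroup.smul_mem_pointwise_smul _ (MulAut.conj h) _ h4
    rw [Sylow.coe_subtype] at h5
    exact h5
  set u := h * u₀ * h⁻¹ with hu
  have huH : u ∈ H := hSH hhS
  have horder : orderOf u = orderOf u₀ := by
    have : u = (MulAut.conj h) u₀ := rfl
    rw [this, MulEquiv.orderOf_eq]
  have huG : u ∈ commutator G := (inferInstance : (commutator G).Normal).conj_mem _ hu₀G h
  have hfu : f ⟨u, huH⟩ ≠ 1 := by
    have h1 : (⟨u, huH⟩ : H) = ⟨h, hhH⟩ * ⟨u₀, hu₀H⟩ * ⟨h, hhH⟩⁻¹ := rfl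
    rw [h1, map_mul, map_mul, map_inv, mul_comm (f ⟨h, hhH⟩), mul_assoc, mul_inv_cancel, mul_one]
    exact hfu₀
  have hmin : ∀ (y : G) (hy : y ∈ H), y ∈ commutator G → (∃ k, orderOf y = p ^ k) →
      orderOf y < orderOf u → f ⟨y, hy⟩ = 1 := by
    intro y hy hyG hyk hlt
    exact hmin₀ y hy hyG hyk (by rw [← horder]; exact hlt)
  set L : Subgroup G := W ⊔ Subgroup.zpowers u with hL
  have hLS : L ≤ (S : Subgroup G) := sup_le hW.1 (by rw [Subgroup.zpowers_le]; exact hhS)
  have hLp : IsPGroup p L := S.2.to_le hLS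
  have huL : u ∈ L := (le_sup_right : Subgroup.zpowers u ≤ L) (Subgroup.mem_zpowers u)
  have : Fintype (G ⧸ H) := Fintype.ofFinite _
  -- the transfer kills `G'`
  let V : G →* Multiplicative (ZMod p) :=
    { toFun := prodOver f Finset.univ
      map_one' := prodOver_one f _
      map_mul' := fun a b => prodOver_mul f a b (fun _ _ => Finset.mem_univ _) }
  have hV : prodOver f Finset.univ u = 1 := Abelianization.commutator_subset_ker V huG
  by_contra hcon
  -- decompose into orbits of `L`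
  let Ω := Quotient (MulAction.orbitRel L (G ⧸ H))
  have : Fintype Ω := Fintype.ofFinite _
  let π : G ⧸ H → Ω := fun c => Quotient.mk'' c
  have hπ : ∀ c d : G ⧸ H, π d = π c ↔ ∃ l ∈ L, l • c = d := by
    intro c d
    rw [Quotient.eq'', MulAction.orbitRel_apply, MulAction.mem_orbit_iff]
    constructor
    · rintro ⟨l, hl⟩
      exact ⟨l, l.2, hl⟩
    · rintro ⟨l, hl, hld⟩
      exact ⟨⟨l, hl⟩, hld⟩
  have hsplit : prodOver f Finset.univ u = ∏ q : Ω, prodOver f (Finset.univ.filter fun c => π c = q) u := by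
    unfold prodOver
    exact (Finset.prod_fiberwise (Finset.univ : Finset (G ⧸ H)) π (fun c => kappa f u c)).symm
  have hother : ∀ q : Ω, q ≠ π ((1 : G) : G ⧸ H) →
      prodOver f (Finset.univ.filter fun c => π c = q) u = 1 := by
    intro q hq
    by_contra hne
    have hex : ∃ c, π c = q ∧ u • c = c := by
      by_contra hno
      push Not at hno
      apply hne
      refine prodOver_eq_one_of_closed f u _ _ rfl ?_ ?_
      · intro c hc
        rw [Finset.mem_filter] at hc ⊢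
        refine ⟨Finset.mem_univ _, ?_⟩
        rw [← hc.2]
        exact (hπ c (u • c)).mpr ⟨u, huL, rfl⟩
      · intro c hc m hm hmc
        obtain ⟨hmem, hval⟩ := kappa_of_smul_eq f (u ^ m) c hmc
        rw [hval]
        have hne' : u • c ≠ c := hno c (Finset.mem_filter.mp hc).2
        have hconj : c.out⁻¹ * u ^ m * c.out = (MulAut.conj c.out⁻¹) (u ^ m) := by simp
        have hord : orderOf (c.out⁻¹ * u ^ m * c.out) = orderOf (u ^ m) := by
          rw [hconj, MulEquiv.orderOf_eq]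
        have hdvd : orderOf (u ^ m) ∣ orderOf u := orderOf_pow_dvd m
        apply hmin
        · have h1 := (inferInstance : (commutator G).Normal).conj_mem _ (pow_mem huG m) c.out⁻¹
          simpa using h1
        · rw [hord]
          rw [horder, hk] at hdvd
          obtain ⟨j, -, hj⟩ := (Nat.dvd_prime_pow hp.out).mp hdvd
          exact ⟨j, hj⟩
        · rw [hord]
          refine lt_of_le_of_ne (Nat.le_of_dvd (orderOf_pos u) hdvd) ?_
          intro heq
          apply hne'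
          have h1 : Subgroup.zpowers (u ^ m) = Subgroup.zpowers u := by
            refine Subgroup.eq_of_le_of_card_ge ?_ ?_
            · rw [Subgroup.zpowers_le]
              exact pow_mem (Subgroup.mem_zpowers u) m
            · rw [Nat.card_zpowers, Nat.card_zpowers, heq]
          have h2 : Subgroup.zpowers (u ^ m) ≤ MulAction.stabilizer G c := by
            rw [Subgroup.zpowers_le]
            exact hmc
          rw [h1] at h2
          exact h2 (Subgroup.mem_zpowers u)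
    obtain ⟨c, hcq, huc⟩ := hex
    have hWc : ∃ w ∈ W, w • c ≠ c := by
      by_contra hno
      push Not at hno
      apply hq
      rw [← hcq, eq_one_of_fixed S W hW H hH c hno]
    obtain ⟨z, hz, R, hR1, hR2, hR3, hR4, hR5, lam, hm, hlam⟩ := block H f L hLp u huL W hL c huc hWc
      (Finset.univ.filter fun c => π c = q) (by
        intro d
        rw [Finset.mem_filter, ← hcq, hπ]
        simp) hne
    exact hcon ⟨u, hhS, z, hz, R, hR1, hR2, hR3, hR4, hR5, lam, hm, hlam⟩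
  have hfix : ∀ l ∈ H, l • ((1 : G) : G ⧸ H) = ((1 : G) : G ⧸ H) := by
    intro l hl
    refine (QuotientGroup.eq.mpr ?_).symm
    simpa using hl
  have hone : (Finset.univ.filter fun c => π c = π ((1 : G) : G ⧸ H)) = {((1 : G) : G ⧸ H)} := by
    ext c
    rw [Finset.mem_filter, Finset.mem_singleton, hπ]
    constructor
    · rintro ⟨-, l, hl, rfl⟩
      exact hfix l (hSH (hLS hl))
    · rintro rfl
      exact ⟨Finset.mem_univ _, 1, one_mem _, one_smul _ _⟩
  rw [hsplit, Finset.prod_eq_single (π ((1 : G) : G ⧸ H)) (fun q _ hq => hother q hq)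
    (fun h => absurd (Finset.mem_univ _) h), hone] at hV
  unfold prodOver at hV
  rw [Finset.prod_singleton] at hV
  obtain ⟨hmem, hval⟩ := kappa_of_smul_eq f u ((1 : G) : G ⧸ H) (hfix u huH)
  rw [hval] at hV
  have hout : ((1 : G) : G ⧸ H).out ∈ H := by
    have h1 := QuotientGroup.eq.mp (QuotientGroup.out_eq' ((1 : G) : G ⧸ H)).symm
    simpa using h1
  apply hfu
  rw [← hV]
  have h2 : (⟨((1 : G) : G ⧸ H).out⁻¹ * u * ((1 : G) : G ⧸ H).out, hmem⟩ : H) =
      (⟨_, hout⟩ : H)⁻¹ * ⟨u, huH⟩ * ⟨_, hout⟩ := rfl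
  rw [h2, map_mul, map_mul, map_inv, mul_comm (f ⟨_, hout⟩)⁻¹, mul_assoc, inv_mul_cancel, mul_one]

end Cfsg.Agent.H545.WielandtYoshida
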