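import Cfsg.Agent.H545.WielandtYoshida
import Mathlib.GroupTheory.Frattini
import Mathlib.Order.Atoms

/-!
# Consequences of the Wielandt--Yoshida theorem
-/

set_option autoImplicit false

namespace Cfsg.Agent.H545.WielandtYoshida2

open Cfsg Cfsg.Agent.H545.WielandtYoshida
open scoped commutatorElement

universe u

variable {G : Type u} [Group G] {p : ℕ}

/-- If all homomorphisms from `H ≥ S` to `C_p` extend to `G` then `S ∩ G' = S ∩ H'`. -/
theorem inf_commutator_eq [Finite G] [hp : Fact p.Prime] (S : Sylow p G) (H : Subgroup G)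
    (hSH : (S : Subgroup G) ≤ H)
    (hext : ∀ f : H →* Multiplicative (ZMod p),
      ∃ F : G →* Multiplicative (ZMod p), ∀ h : H, F h = f h) :
    (S : Subgroup G) ⊓ commutator G = (S : Subgroup G) ⊓ ⁅H, H⁆ := by
  have hidx : ¬ p ∣ H.index := fun h => S.not_dvd_index (h.trans (Subgroup.index_dvd_of_le hSH))
  refine le_antisymm ?_ (inf_le_inf_left _ (Subgroup.commutator_mono le_top le_top))
  rintro x ⟨hxS, hxG⟩
  refine ⟨hxS, ?_⟩
  let A := Abelianization H
  have : Finite A := inferInstanceAs (Finite (H ⧸ commutator H))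
  obtain ⟨k, m, hm, hkm⟩ := Nat.exists_eq_pow_mul_and_not_dvd (n := Nat.card A)
    Nat.card_pos.ne' p hp.out.ne_one
  let φ₀ : A →* A := powMonoidHom m
  let B := φ₀.range
  have hB : IsPGroup p B := by
    rintro ⟨_, a, rfl⟩
    refine ⟨k, ?_⟩
    apply Subtype.ext
    change (a ^ m) ^ p ^ k = 1
    rw [← pow_mul, mul_comm, ← hkm, pow_card_eq_one']
  let φ : H →* B := φ₀.rangeRestrict.comp (Abelianization.of)
  obtain ⟨F, hF⟩ := Cfsg.Agent.Transfer.Tate.hom_to_pGroup_extends H hidx hext hB φ
  have h1 : F x = 1 := Abelianization.commutator_subset_ker F hxG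
  have h2 : φ ⟨x, hSH hxS⟩ = 1 := by
    rw [← hF ⟨x, hSH hxS⟩]
    exact h1
  have h3 : (Abelianization.of (⟨x, hSH hxS⟩ : H)) ^ m = 1 := congrArg Subtype.val h2
  obtain ⟨j, hj⟩ := S.2 ⟨x, hxS⟩
  have hj' : x ^ p ^ j = 1 := congrArg Subtype.val hj
  have h4 : (Abelianization.of (⟨x, hSH hxS⟩ : H)) ^ p ^ j = 1 := by
    rw [← map_pow]
    have : (⟨x, hSH hxS⟩ : H) ^ p ^ j = 1 := Subtype.ext hj'
    rw [this, map_one]
  have h5 : (Abelianization.of (⟨x, hSH hxS⟩ : H)) = 1 := by
    have hcop : Nat.Coprime (p ^ j) m :=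
      Nat.Coprime.pow_left j ((Nat.Prime.coprime_iff_not_dvd hp.out).mpr hm)
    have := orderOf_dvd_of_pow_eq_one h3
    have h6 := orderOf_dvd_of_pow_eq_one h4
    have h7 := Nat.eq_one_of_dvd_coprimes hcop h6 this
    exact orderOf_eq_one_iff.mp h7
  have h6 : (⟨x, hSH hxS⟩ : H) ∈ commutator H := by
    rw [← Abelianization.ker_of]
    exact h5
  have h7 : (commutator H).map H.subtype = ⁅H, H⁆ := Subgroup.map_subtype_commutator H
  rw [← h7]
  exact ⟨_, h6, rfl⟩

/-- An element of order a power of `p` not killed by a homomorphism to `C_p` is not in the Frattini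
subgroup. -/
theorem not_mem_frattini {R : Type*} [Group R] [hp : Fact p.Prime]
    (lam : R →* Multiplicative (ZMod p)) {x : R} (hx : lam x ≠ 1) : x ∉ frattini R := by
  intro h
  have hcoatom : IsCoatom lam.ker := by
    have hsurj : lam.range = ⊤ := by
      have : Nat.card (Multiplicative (ZMod p)) = p := by simp
      have hdvd := Subgroup.card_subgroup_dvd_card lam.range
      rw [this] at hdvd
      rcases (Nat.dvd_prime hp.out).mp hdvd with h1 | h1
      · exfalso
        rw [Subgroup.card_eq_one] at h1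
        apply hx
        have : lam x ∈ lam.range := ⟨x, rfl⟩
        rw [h1] at this
        exact Subgroup.mem_bot.mp this
      · apply Subgroup.eq_top_of_card_eq
        rw [h1, this]
    refine ⟨?_, ?_⟩
    · intro htop
      apply hx
      have : x ∈ lam.ker := by rw [htop]; exact Subgroup.mem_top _
      exact this
    · intro K hK
      have h1 : K.map lam ≠ ⊥ := by
        intro h1
        rw [Subgroup.map_eq_bot_iff] at h1
        exact hK.not_ge h1
      have h2 : K.map lam = ⊤ := by
        have : Nat.card (Multiplicative (ZMod p)) = p := by simp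
        have hdvd := Subgroup.card_subgroup_dvd_card (K.map lam)
        rw [this] at hdvd
        rcases (Nat.dvd_prime hp.out).mp hdvd with h3 | h3
        · exact absurd (Subgroup.card_eq_one.mp h3) h1
        · apply Subgroup.eq_top_of_card_eq
          rw [h3, this]
      have h3 := Subgroup.comap_map_eq lam K
      rw [h2, Subgroup.comap_top, sup_eq_left.mpr hK.le] at h3
      exact h3.symm
  exact hx ((frattini_le_coatom hcoatom) h)

/-- **Wielandt--Yoshida** for weakly closed subgroups. -/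
theorem exists_iterated_commutator [Finite G] [hp : Fact p.Prime] (S : Sylow p G) (W : Subgroup G)
    (hW : IsWeaklyClosed W (S : Subgroup G))
    (h : (S : Subgroup G) ⊓ commutator G ≠ (S : Subgroup G) ⊓
      ⁅Subgroup.normalizer (W : Set G), Subgroup.normalizer (W : Set G)⁆) :
    ∃ x ∈ (S : Subgroup G), ∃ z ∈ W, ∃ W₀ : Subgroup ↥W, IsCoatom W₀ ∧
      (fun y : G => y⁻¹ * z⁻¹ * y * z)^[p - 1] x ∈ W₀.map W.subtype ∧
      (fun y : G => y⁻¹ * z⁻¹ * y * z)^[p - 1] x ∉ ((frattini ↥W₀).map W₀.subtype).map W.subtype := by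
  have hSH := le_normalizer_of_weaklyClosed _ _ hW
  obtain ⟨f, hf⟩ : ∃ f : Subgroup.normalizer (W : Set G) →* Multiplicative (ZMod p),
      ¬ ∃ F : G →* Multiplicative (ZMod p), ∀ h : Subgroup.normalizer (W : Set G), F h = f h := by
    by_contra hcon
    push Not at hcon
    exact h (inf_commutator_eq S _ hSH fun f => by
      obtain ⟨F, hF⟩ := hcon f
      exact ⟨F, hF⟩)
  obtain ⟨u, hu, z, hz, R, hRL, hRn, hRp, huR, hzR, lam, hm, hlam⟩ :=
    exists_of_hom_not_extends S W hW _ rfl f hf
  set L : Subgroup G := W ⊔ Subgroup.zpowers u with hL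
  have hWL : W ≤ L := le_sup_left
  set v := (fun y : G => y⁻¹ * z⁻¹ * y * z)^[p - 1] u with hv
  have hvW : v ∈ W := by
    obtain ⟨k, hk⟩ : ∃ k, p - 1 = k + 1 := ⟨p - 2, by have := hp.out.two_le; omega⟩
    have hmemS : ∀ k, (fun y : G => y⁻¹ * z⁻¹ * y * z)^[k] u ∈ (S : Subgroup G) := by
      intro k
      induction k with
      | zero => exact hu
      | succ k ih =>
        rw [Function.iterate_succ_apply']
        exact mul_mem (mul_mem (mul_mem (inv_mem ih) (inv_mem (hW.1 hz))) ih) (hW.1 hz)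
    rw [hv, hk, Function.iterate_succ_apply']
    set y := (fun y : G => y⁻¹ * z⁻¹ * y * z)^[k] u
    have hy : y⁻¹ ∈ Subgroup.normalizer (W : Set G) := inv_mem (hSH (hmemS k))
    have h1 := (Subgroup.mem_normalizer_iff.mp hy z⁻¹).mp (inv_mem hz)
    rw [inv_inv] at h1
    exact mul_mem h1 hz
  let W₀ : Subgroup W := R.subgroupOf W
  -- `W₀` has index `p` in `W`
  let q : W →* L ⧸ R.subgroupOf L := (QuotientGroup.mk' (R.subgroupOf L)).comp (Subgroup.inclusion hWL)
  have hqk : q.ker = W₀ := by
    ext w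
    rw [MonoidHom.mem_ker]
    change QuotientGroup.mk' (R.subgroupOf L) (Subgroup.inclusion hWL w) = 1 ↔ _
    rw [QuotientGroup.mk'_apply, QuotientGroup.eq_one_iff, Subgroup.mem_subgroupOf,
      Subgroup.mem_subgroupOf]
    rfl
  have hcard : Nat.card (L ⧸ R.subgroupOf L) = p := by
    rw [← Subgroup.index_eq_card]; exact hRp
  have hcoatom : IsCoatom W₀ := by
    refine ⟨?_, ?_⟩
    · intro htop
      apply hzR
      have : (⟨z, hz⟩ : W) ∈ W₀ := by rw [htop]; exact Subgroup.mem_top _
      exact Subgroup.mem_subgroupOf.mp this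
    · intro K hK
      have h1 : K.map q ≠ ⊥ := by
        intro h1
        rw [Subgroup.map_eq_bot_iff, hqk] at h1
        exact hK.not_ge h1
      have h2 : K.map q = ⊤ := by
        have hdvd := Subgroup.card_subgroup_dvd_card (K.map q)
        rw [hcard] at hdvd
        rcases (Nat.dvd_prime hp.out).mp hdvd with h3 | h3
        · exact absurd (Subgroup.card_eq_one.mp h3) h1
        · apply Subgroup.eq_top_of_card_eq
          rw [h3, hcard]
      have h3 := Subgroup.comap_map_eq q K
      rw [h2, Subgroup.comap_top, hqk, sup_eq_left.mpr hK.le] at h3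
      exact h3.symm
  refine ⟨u, hu, z, hz, W₀, hcoatom, ⟨⟨v, hvW⟩, Subgroup.mem_subgroupOf.mpr hm, rfl⟩, ?_⟩
  rintro ⟨w, ⟨w', hw', hw'w⟩, hwv⟩
  -- restrict `lam` to `W₀`
  let ι : W₀ →* R :=
    { toFun := fun w => ⟨((w : W) : G), Subgroup.mem_subgroupOf.mp w.2⟩
      map_one' := rfl
      map_mul' := fun _ _ => rfl }
  refine not_mem_frattini (lam.comp ι) (x := w') ?_ hw'
  have h1 : ι w' = ⟨v, hm⟩ := by
    apply Subtype.ext
    change ((w' : W) : G) = v
    rw [hv, ← hwv, ← hw'w]
    rfl
  rw [MonoidHom.comp_apply, h1]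
  exact hlam

end Cfsg.Agent.H545.WielandtYoshida2
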